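import Mathlib
import Cfsg.Agent.Lib.Helper75.APair.Defs

/-!
# APAIR (S2276) package [TLa]

A list of pairwise non-`SameCycle` points extends to a complete list of representatives; the
periods of the representatives add up to the cardinality.
-/

set_option autoImplicit false

namespace Cfsg.Agent.Lib.Helper29.APair

open Equiv Cfsg.Agent.Lib.Helper75.APair

section
variable {Δ : Type} [Fintype Δ] [DecidableEq Δ]

theorem minimalPeriod_pos_perm (a : Perm Δ) (s : Δ) :
    0 < Function.minimalPeriod (a : Δ → Δ) s := by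
  have hper : Function.IsPeriodicPt (a : Δ → Δ) (orderOf a) s := by
    show (a : Δ → Δ)^[orderOf a] s = s
    rw [Perm.iterate_eq_pow, pow_orderOf_eq_one]
    rfl
  exact hper.minimalPeriod_pos (orderOf_pos a)

theorem pow_minimalPeriod_apply (a : Perm Δ) (s : Δ) :
    (a ^ Function.minimalPeriod (a : Δ → Δ) s) s = s := by
  have h := Function.isPeriodicPt_minimalPeriod (a : Δ → Δ) s
  have h' : (a : Δ → Δ)^[Function.minimalPeriod (a : Δ → Δ) s] s = s := h
  rw [Perm.iterate_eq_pow] at h'
  exact h'

theorem sameCycle_pow_apply (a : Perm Δ) (s : Δ) (k : ℕ) : a.SameCycle s ((a ^ k) s) :=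
  ⟨(k : ℤ), by rw [zpow_natCast]⟩

theorem sameCycle_iff_exists_lt (a : Perm Δ) (s x : Δ) :
    a.SameCycle s x ↔ ∃ k < Function.minimalPeriod (a : Δ → Δ) s, (a ^ k) s = x := by
  constructor
  · intro h
    obtain ⟨i, hi⟩ := h.exists_nat_pow_eq
    refine ⟨i % Function.minimalPeriod (a : Δ → Δ) s, Nat.mod_lt _ (minimalPeriod_pos_perm a s), ?_⟩
    have h1 : (a : Δ → Δ)^[i % Function.minimalPeriod (a : Δ → Δ) s] s = (a : Δ → Δ)^[i] s :=
      Function.iterate_mod_minimalPeriod_eq
    rw [Perm.iterate_eq_pow, Perm.iterate_eq_pow] at h1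
    rw [h1, hi]
  · rintro ⟨k, -, rfl⟩
    exact sameCycle_pow_apply a s k

theorem pow_apply_ne_of_lt (a : Perm Δ) (s : Δ) {k : ℕ} (hk0 : 0 < k)
    (hk : k < Function.minimalPeriod (a : Δ → Δ) s) : (a ^ k) s ≠ s := by
  intro h
  have hper : Function.IsPeriodicPt (a : Δ → Δ) k s := by
    show (a : Δ → Δ)^[k] s = s
    rw [Perm.iterate_eq_pow]
    exact h
  have h2 := hper.minimalPeriod_le hk0
  omega

theorem card_sameCycle (a : Perm Δ) (s : Δ) :
    (Finset.univ.filter (fun x => a.SameCycle s x)).card =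
      Function.minimalPeriod (a : Δ → Δ) s := by
  have h1 : Finset.univ.filter (fun x => a.SameCycle s x) =
      (Finset.range (Function.minimalPeriod (a : Δ → Δ) s)).image (fun k => (a ^ k) s) := by
    ext x
    simp only [Finset.mem_filter, Finset.mem_univ, true_and, Finset.mem_image, Finset.mem_range]
    exact sameCycle_iff_exists_lt a s x
  rw [h1, Finset.card_image_of_injOn, Finset.card_range]
  intro i hi j hj hij
  have hi' : i ∈ Set.Iio (Function.minimalPeriod (a : Δ → Δ) s) := by
    simpa using hi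
  have hj' : j ∈ Set.Iio (Function.minimalPeriod (a : Δ → Δ) s) := by
    simpa using hj
  exact Function.iterate_injOn_Iio_minimalPeriod hi' hj' hij

theorem card_eq_sum_periods (a : Perm Δ) (l : List Δ) (h : Reps a l) :
    Fintype.card Δ = (l.map (fun s => Function.minimalPeriod (a : Δ → Δ) s)).sum := by
  obtain ⟨hnd, hns, hcov⟩ := h
  choose r hr hrs using hcov
  have hfib : ∀ s ∈ l.toFinset, (Finset.univ.filter (fun x => r x = s)).card =
      Function.minimalPeriod (a : Δ → Δ) s := by
    intro s hs
    have hs' : s ∈ l := List.mem_toFinset.mp hs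
    rw [← card_sameCycle a s]
    congr 1
    ext x
    simp only [Finset.mem_filter, Finset.mem_univ, true_and]
    constructor
    · intro hx
      have h1 := hrs x
      rw [hx] at h1
      exact h1
    · intro hx
      exact hns _ (hr x) _ hs' ((hrs x).trans hx.symm)
  rw [← List.sum_toFinset _ hnd, ← Finset.card_univ,
    Finset.card_eq_sum_card_fiberwise (f := r) (t := l.toFinset)
      (fun x _ => List.mem_toFinset.mpr (hr x))]
  exact Finset.sum_congr rfl hfib

theorem exists_reps_extension (a : Perm Δ) :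
    ∀ (k : ℕ) (l : List Δ), l.Nodup → (∀ s ∈ l, ∀ s' ∈ l, a.SameCycle s s' → s = s') →
      Fintype.card Δ - l.length ≤ k → ∃ l₁ : List Δ, Reps a (l ++ l₁) := by
  intro k
  induction k with
  | zero =>
    intro l hnd hns hk
    refine ⟨[], ?_⟩
    rw [List.append_nil]
    refine ⟨hnd, hns, ?_⟩
    by_contra hcon
    rw [not_forall] at hcon
    obtain ⟨x, hx⟩ := hcon
    have hxl : x ∉ l := fun hxl => hx ⟨x, hxl, Perm.SameCycle.refl a x⟩
    have hnd' : (x :: l).Nodup := List.nodup_cons.mpr ⟨hxl, hnd⟩
    have h1 := hnd'.length_le_card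
    rw [List.length_cons] at h1
    omega
  | succ k ih =>
    intro l hnd hns hk
    by_cases hc : ∀ x, ∃ s ∈ l, a.SameCycle s x
    · refine ⟨[], ?_⟩
      rw [List.append_nil]
      exact ⟨hnd, hns, hc⟩
    · rw [not_forall] at hc
      obtain ⟨x, hx⟩ := hc
      have hxl : x ∉ l := fun hxl => hx ⟨x, hxl, Perm.SameCycle.refl a x⟩
      have hnd' : (l ++ [x]).Nodup := by
        rw [List.nodup_append]
        refine ⟨hnd, List.nodup_singleton x, ?_⟩
        intro y hy z hz
        rw [List.mem_singleton] at hz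
        rw [hz]
        rintro rfl
        exact hxl hy
      have hns' : ∀ s ∈ l ++ [x], ∀ s' ∈ l ++ [x], a.SameCycle s s' → s = s' := by
        intro s hs s' hs' hsc
        rw [List.mem_append, List.mem_singleton] at hs hs'
        rcases hs with hs | hs <;> rcases hs' with hs' | hs'
        · exact hns s hs s' hs' hsc
        · exfalso
          rw [hs'] at hsc
          exact hx ⟨s, hs, hsc⟩
        · exfalso
          rw [hs] at hsc
          exact hx ⟨s', hs', hsc.symm⟩
        · rw [hs, hs']
      have hlen : Fintype.card Δ - (l ++ [x]).length ≤ k := by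
        rw [List.length_append, List.length_singleton]
        omega
      obtain ⟨l₁, hl₁⟩ := ih (l ++ [x]) hnd' hns' hlen
      refine ⟨[x] ++ l₁, ?_⟩
      rw [← List.append_assoc]
      exact hl₁

end

/-- **[TLa]** -/
theorem pkgTLa : PkgTLa := by
  intro Δ _ _ a l₀ hnd hns
  obtain ⟨l₁, hl₁⟩ := exists_reps_extension a (Fintype.card Δ) l₀ hnd hns (Nat.sub_le _ _)
  exact ⟨l₁, hl₁, card_eq_sum_periods a _ hl₁⟩

end Cfsg.Agent.Lib.Helper29.APair
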