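import Mathlib
import Cfsg.Agent.Lib.Helper75.APair.Defs
import Cfsg.Agent.Lib.Helper29.APair.TLa

/-!
# APAIR (S2276) package [TLb] (threading)

If `l` is a complete list of representatives of the cycles of `a`, then `l.formPerm⁻¹ * a` is a
full cycle.
-/

set_option autoImplicit false

namespace Cfsg.Agent.Lib.Helper29.APair

open Equiv Cfsg.Agent.Lib.Helper75.APair

/-- **[TLb]** -/
theorem pkgTLb : PkgTLb := by
  intro Δ _ _ a l hR
  obtain ⟨hnd, hns, hcov⟩ := hR
  obtain ⟨c, hc⟩ : ∃ c : Perm Δ, c = l.formPerm := ⟨_, rfl⟩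
  obtain ⟨ν, hν⟩ : ∃ ν : Perm Δ, ν = c⁻¹ * a := ⟨_, rfl⟩
  rw [← hc, ← hν]
  have hcfix : ∀ y, y ∉ l → c⁻¹ y = y := by
    intro y hy
    rw [Perm.inv_eq_iff_eq, hc]
    exact (List.formPerm_apply_of_notMem hy).symm
  have hνapp : ∀ y, ν y = c⁻¹ (a y) := by
    intro y
    rw [hν, Perm.mul_apply]
  -- along the `a`-cycle of a representative, `ν` agrees with `a`
  have h1 : ∀ s ∈ l, ∀ k, k < Function.minimalPeriod (a : Δ → Δ) s → (ν ^ k) s = (a ^ k) s := by
    intro s hs k
    induction k with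
    | zero =>
      intro _
      rw [pow_zero, pow_zero]
    | succ k ih =>
      intro hk
      rw [pow_succ', Perm.mul_apply, ih (by omega), hνapp, ← Perm.mul_apply a, ← pow_succ']
      apply hcfix
      intro hmem
      have heq := hns s hs _ hmem (sameCycle_pow_apply a s (k + 1))
      exact pow_apply_ne_of_lt a s (Nat.succ_pos k) hk heq.symm
  -- the `ν`-cycle of `s` contains `c⁻¹ s`
  have h2 : ∀ s ∈ l, ν.SameCycle s (c⁻¹ s) := by
    intro s hs
    obtain ⟨m, hm⟩ : ∃ m, Function.minimalPeriod (a : Δ → Δ) s = m + 1 :=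
      Nat.exists_eq_succ_of_ne_zero (minimalPeriod_pos_perm a s).ne'
    refine ⟨((m + 1 : ℕ) : ℤ), ?_⟩
    rw [zpow_natCast, pow_succ', Perm.mul_apply, h1 s hs m (by omega), hνapp,
      ← Perm.mul_apply a, ← pow_succ', ← hm, pow_minimalPeriod_apply]
  -- `c t` and `t` are in the same `ν`-cycle
  have h3 : ∀ t ∈ l, ν.SameCycle t (c t) := by
    intro t ht
    have hct : c t ∈ l := by
      rw [hc]
      exact List.formPerm_apply_mem_of_mem ht
    have h4 := h2 (c t) hct
    have h5 : c⁻¹ (c t) = t := Perm.inv_eq_iff_eq.mpr rfl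
    rw [h5] at h4
    exact h4.symm
  have h4 : ∀ t ∈ l, ∀ j : ℕ, (c ^ j) t ∈ l ∧ ν.SameCycle t ((c ^ j) t) := by
    intro t ht j
    induction j with
    | zero =>
      rw [pow_zero]
      exact ⟨ht, Perm.SameCycle.refl ν t⟩
    | succ j ih =>
      rw [pow_succ', Perm.mul_apply]
      refine ⟨?_, ih.2.trans (h3 _ ih.1)⟩
      rw [hc]
      exact List.formPerm_apply_mem_of_mem (by rw [← hc]; exact ih.1)
  -- all representatives are in one `ν`-cycle
  have h5 : ∀ s ∈ l, ∀ s' ∈ l, ν.SameCycle s s' := by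
    intro s hs s' hs'
    obtain ⟨i, hi, rfl⟩ := List.getElem_of_mem hs
    obtain ⟨i', hi', rfl⟩ := List.getElem_of_mem hs'
    have h6 := (h4 l[i] (List.getElem_mem hi) (i' + l.length - i)).2
    have h7 : (c ^ (i' + l.length - i)) l[i] = l[i'] := by
      rw [hc, List.formPerm_pow_apply_getElem l hnd _ i hi]
      congr 1
      have h8 : i + (i' + l.length - i) = i' + l.length := by omega
      rw [h8, Nat.add_mod_right, Nat.mod_eq_of_lt hi']
    rw [h7] at h6
    exact h6
  -- every point is in the `ν`-cycle of its representative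
  have h6 : ∀ x, ∃ s ∈ l, ν.SameCycle s x := by
    intro x
    obtain ⟨s, hs, hsx⟩ := hcov x
    obtain ⟨k, hk, rfl⟩ := (sameCycle_iff_exists_lt a s x).mp hsx
    refine ⟨s, hs, ?_⟩
    rw [← h1 s hs k hk]
    exact sameCycle_pow_apply ν s k
  intro x y
  obtain ⟨s, hs, hsx⟩ := h6 x
  obtain ⟨s', hs', hsy⟩ := h6 y
  exact hsx.symm.trans ((h5 s hs s' hs').trans hsy)

end Cfsg.Agent.Lib.Helper29.APair
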