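import Mathlib
import Cfsg.Agent.Lib.Helper75.APair.Defs
import Cfsg.Agent.Lib.Helper75.APair.Defs2
import Cfsg.Agent.Lib.Helper84.APair.Core
import Cfsg.Agent.Lib.Helper29.APair.TLa
import Cfsg.Agent.Lib.Helper29.APair.TLb

/-!
# APAIR (S2276): package [C3B]

`a` of order 3 with two 3-cycles (through `s₁`, `s₂`) and at least five cycles in all; `b` a full
cycle.
-/

set_option autoImplicit false

namespace Cfsg.Agent.Lib.Helper29.APair

open Equiv Cfsg.Agent.Lib.Helper75.APair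

theorem swap_commute_of_fix {Δ : Type} [DecidableEq Δ] (g : Perm Δ) (y z : Δ) (hy : g y = y)
    (hz : g z = z) : Commute (swap y z) g := by
  have h1 := swap_apply_apply g y z
  rw [hy, hz] at h1
  show swap y z * g = g * swap y z
  calc swap y z * g = (g * swap y z * g⁻¹) * g := by rw [← h1]
    _ = _ := by group

/-- **[C3B]** -/
theorem pkgC3B (hODDC : PkgOddComm) (hFC : PkgFC) (hEven : PkgEven) (hNS5 : PkgNS5) :
    PkgC3B := by
  intro Δ _ _ d hcard a b s₁ s₂ x x' x'' ha3 hs₁ hs₂ hnd0 hns0 hb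
  classical
  have ha3' : ∀ y, a (a (a y)) = y := by
    intro y
    have h : (a ^ 3) y = y := by rw [ha3]; rfl
    rw [pow_three', Perm.mul_apply, Perm.mul_apply] at h
    exact h
  have hper : ∀ y, Odd (Function.minimalPeriod (a : Δ → Δ) y) := by
    intro y
    have h1 : Function.minimalPeriod (a : Δ → Δ) y ∣ 3 := by
      apply Function.IsPeriodicPt.minimalPeriod_dvd
      show (a : Δ → Δ)^[3] y = y
      rw [Perm.iterate_eq_pow, ha3]
      rfl
    exact Odd.of_dvd_nat (by decide) h1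
  obtain ⟨l₁, hreps, hsum⟩ := pkgTLa Δ a [s₁, s₂, x, x', x''] hnd0 hns0
  set l : List Δ := [s₁, s₂, x, x', x''] ++ l₁ with hl
  have hlen : 5 ≤ l.length := by
    rw [hl, List.length_append]
    simp
  have hmem0 : ∀ y ∈ [s₁, s₂, x, x', x''], y ∈ l := fun y hy => by
    rw [hl]
    exact List.mem_append_left _ hy
  have hs₁l : s₁ ∈ l := hmem0 _ (by simp)
  have hs₂l : s₂ ∈ l := hmem0 _ (by simp)
  have hxl : x ∈ l := hmem0 _ (by simp)
  have hν : Full (l.formPerm⁻¹ * a) := pkgTLb Δ a l hreps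
  have hr : Odd l.length := by
    have h1 := Cfsg.Agent.Lib.Helper84.APair.odd_sum_length
      (fun s => Function.minimalPeriod (a : Δ → Δ) s) l (fun s _ => hper s)
    rw [← hsum, hcard] at h1
    have h2 : Odd (3 ^ d) := Odd.pow (by decide)
    rw [Nat.odd_iff] at h2 ⊢
    omega
  have hcr : l.formPerm ^ l.length = 1 := List.formPerm_pow_length_eq_one_of_nodup l hreps.1
  have hnot : ∀ s ∈ l, a s ≠ s → a s ∉ l ∧ a (a s) ∉ l := by
    intro s hs hne
    constructor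
    · intro hmem
      have hsc : a.SameCycle s (a s) := by
        have h := sameCycle_pow_apply a s 1
        rwa [pow_one] at h
      exact hne (hreps.2.1 s hs _ hmem hsc).symm
    · intro hmem
      have hsc : a.SameCycle s (a (a s)) := by
        have h := sameCycle_pow_apply a s 2
        rwa [pow_two, Perm.mul_apply] at h
      have heq := hreps.2.1 s hs _ hmem hsc
      apply hne
      have h3 := ha3' s
      rw [← heq] at h3
      exact h3
  obtain ⟨hA1, hB1⟩ := hnot s₁ hs₁l hs₁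
  obtain ⟨hA2, hB2⟩ := hnot s₂ hs₂l hs₂
  have hneq : ∀ y z, y ∉ l → z ∈ l → y ≠ z := by
    intro y z hy hz h
    rw [h] at hy
    exact hy hz
  have hs12 : s₁ ≠ s₂ := by
    intro h
    have h1 := (List.nodup_cons.mp hnd0).1
    rw [h] at h1
    exact h1 (by simp)
  -- distinctness of `a s₁, a s₂, a (a s₁), a (a s₂)`
  have hA12 : a s₁ ≠ a s₂ := a.injective.ne hs12
  have hB12 : a (a s₁) ≠ a (a s₂) := a.injective.ne hA12
  have hb1a1 : a (a s₁) ≠ a s₁ := fun h => hs₁ (a.injective h)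
  have hb2a2 : a (a s₂) ≠ a s₂ := fun h => hs₂ (a.injective h)
  have hb1a2 : a (a s₁) ≠ a s₂ := by
    intro h
    have h1 : a s₁ = s₂ := a.injective h
    rw [h1] at hA1
    exact hA1 hs₂l
  have hb2a1 : a (a s₂) ≠ a s₁ := by
    intro h
    have h1 : a s₂ = s₁ := a.injective h
    rw [h1] at hA2
    exact hA2 hs₁l
  have hcfix : ∀ y, y ∉ l → l.formPerm y = y := fun y hy => List.formPerm_apply_of_notMem hy
  have hcget : ∀ i (hi : i + 1 < l.length), l.formPerm (l[i]'(by omega)) = l[i + 1] := by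
    intro i hi
    have h := List.formPerm_apply_getElem l hreps.1 i (by omega)
    simp only [Nat.mod_eq_of_lt hi] at h
    exact h
  have hc1 : l.formPerm s₁ = s₂ := hcget 0 (by omega)
  have hc2 : l.formPerm s₂ = x := hcget 1 (by omega)
  have hc3 : l.formPerm x = x' := hcget 2 (by omega)
  have hc4 : l.formPerm x' = x'' := hcget 3 (by omega)
  set c : Perm Δ := l.formPerm with hc
  have hθc : Commute (swap (a s₁) (a s₂)) c :=
    swap_commute_of_fix c _ _ (hcfix _ hA1) (hcfix _ hA2)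
  have hBc : Commute (swap (a (a s₁)) (a (a s₂))) c :=
    swap_commute_of_fix c _ _ (hcfix _ hB1) (hcfix _ hB2)
  have hμFull : Full (swap (a s₁) (a s₂) * (c⁻¹ * a)⁻¹ * (swap (a s₁) (a s₂))⁻¹) :=
    Cfsg.Agent.Lib.Helper84.APair.full_conj (Cfsg.Agent.Lib.Helper84.APair.full_inv hν) _
  obtain ⟨g, hg⟩ := hFC Δ _ b hμFull hb
  have hπ : a * (swap (a s₁) (a s₂) * (c⁻¹ * a)⁻¹ * (swap (a s₁) (a s₂))⁻¹) =
      swap (a (a s₁)) (a (a s₂)) * swap (a s₁) (a s₂) * c := by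
    have e1 : a * swap (a s₁) (a s₂) * a⁻¹ = swap (a (a s₁)) (a (a s₂)) :=
      (swap_apply_apply a (a s₁) (a s₂)).symm
    rw [swap_inv]
    calc a * (swap (a s₁) (a s₂) * (c⁻¹ * a)⁻¹ * swap (a s₁) (a s₂))
        = (a * swap (a s₁) (a s₂) * a⁻¹) * (c * swap (a s₁) (a s₂)) := by group
      _ = swap (a (a s₁)) (a (a s₂)) * (swap (a s₁) (a s₂) * c) := by rw [e1, hθc.eq]
      _ = _ := by rw [mul_assoc]
  obtain ⟨μ, hμ⟩ : ∃ μ : Perm Δ,
      μ = swap (a s₁) (a s₂) * (c⁻¹ * a)⁻¹ * (swap (a s₁) (a s₂))⁻¹ := ⟨_, rfl⟩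
  rw [← hμ] at hπ hg
  obtain ⟨δ, hδ⟩ : ∃ δ : Perm Δ, δ = swap (a (a s₁)) (a (a s₂)) * swap (a s₁) (a s₂) := ⟨_, rfl⟩
  rw [← hδ] at hπ
  have hBA : Commute (swap (a (a s₁)) (a (a s₂))) (swap (a s₁) (a s₂)) :=
    swap_commute_of_fix _ _ _ (swap_apply_of_ne_of_ne hb1a1 hb1a2)
      (swap_apply_of_ne_of_ne hb2a1 hb2a2)
  have hδ2 : δ * δ = 1 := by
    rw [hδ, hBA.symm.mul_mul_mul_comm, swap_mul_self, swap_mul_self, one_mul]
  have hδ1 : δ ≠ 1 := by
    intro h
    have h1 : δ (a s₁) = a s₂ := by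
      rw [hδ, Perm.mul_apply, swap_apply_left, swap_apply_of_ne_of_ne hb1a2.symm hb2a2.symm]
    rw [h] at h1
    exact hA12 h1
  have hcomm : Commute δ c := by
    rw [hδ]
    exact hBc.mul_left hθc
  have hpow : (a * μ) ^ l.length = δ := by
    rw [hπ, hcomm.mul_pow, hcr, mul_one]
    obtain ⟨k, hk⟩ := hr
    rw [hk, pow_succ, pow_mul, pow_two, hδ2, one_pow, one_mul]
  have hPP : PP 3 a μ := by
    refine ⟨hEven (Perm Δ) 3 (by decide) (a * μ) l.length (by rw [hpow]; exact hδ1)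
      (by rw [hpow, pow_two]; exact hδ2), ?_⟩
    set H : Subgroup (Perm Δ) := Subgroup.closure ({a, μ} : Set (Perm Δ)) with hH
    have haH : a ∈ H := Subgroup.subset_closure (by simp)
    have hμH : μ ∈ H := Subgroup.subset_closure (by simp)
    have hδH : δ ∈ H := by
      rw [← hpow]
      exact H.pow_mem (H.mul_mem haH hμH) _
    have hcH : c ∈ H := by
      have h1 : c = δ * (a * μ) := by rw [hπ, ← mul_assoc, hδ2, one_mul]
      rw [h1]
      exact H.mul_mem hδH (H.mul_mem haH hμH)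
    have conj1 : a * δ * a⁻¹ = swap s₁ s₂ * swap (a (a s₁)) (a (a s₂)) := by
      have e1 : a * swap (a (a s₁)) (a (a s₂)) * a⁻¹ = swap s₁ s₂ := by
        rw [← swap_apply_apply, ha3', ha3']
      have e2 : a * swap (a s₁) (a s₂) * a⁻¹ = swap (a (a s₁)) (a (a s₂)) :=
        (swap_apply_apply a (a s₁) (a s₂)).symm
      rw [hδ]
      calc a * (swap (a (a s₁)) (a (a s₂)) * swap (a s₁) (a s₂)) * a⁻¹
          = (a * swap (a (a s₁)) (a (a s₂)) * a⁻¹) * (a * swap (a s₁) (a s₂) * a⁻¹) := by group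
        _ = _ := by rw [e1, e2]
    have conj2 : c * (swap s₁ s₂ * swap (a (a s₁)) (a (a s₂))) * c⁻¹ =
        swap s₂ x * swap (a (a s₁)) (a (a s₂)) := by
      have e1 : c * swap s₁ s₂ * c⁻¹ = swap s₂ x := by
        rw [← swap_apply_apply, hc1, hc2]
      have e2 : c * swap (a (a s₁)) (a (a s₂)) * c⁻¹ = swap (a (a s₁)) (a (a s₂)) := by
        rw [← hBc.eq, mul_inv_cancel_right]
      calc c * (swap s₁ s₂ * swap (a (a s₁)) (a (a s₂))) * c⁻¹
          = (c * swap s₁ s₂ * c⁻¹) * (c * swap (a (a s₁)) (a (a s₂)) * c⁻¹) := by group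
        _ = _ := by rw [e1, e2]
    have hBS : Commute (swap (a (a s₁)) (a (a s₂))) (swap s₂ x) :=
      swap_commute_of_fix _ _ _
        (swap_apply_of_ne_of_ne (hneq _ _ hB1 hs₂l) (hneq _ _ hB1 hxl))
        (swap_apply_of_ne_of_ne (hneq _ _ hB2 hs₂l) (hneq _ _ hB2 hxl))
    have ht : (swap s₁ s₂ * swap (a (a s₁)) (a (a s₂))) *
        (swap s₂ x * swap (a (a s₁)) (a (a s₂))) = swap s₁ s₂ * swap s₂ x := by
      calc (swap s₁ s₂ * swap (a (a s₁)) (a (a s₂))) * (swap s₂ x * swap (a (a s₁)) (a (a s₂)))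
          = swap s₁ s₂ * (swap (a (a s₁)) (a (a s₂)) * swap s₂ x) *
              swap (a (a s₁)) (a (a s₂)) := by group
        _ = swap s₁ s₂ * (swap s₂ x * swap (a (a s₁)) (a (a s₂))) *
              swap (a (a s₁)) (a (a s₂)) := by rw [hBS.eq]
        _ = swap s₁ s₂ * swap s₂ x *
              (swap (a (a s₁)) (a (a s₂)) * swap (a (a s₁)) (a (a s₂))) := by group
        _ = _ := by rw [swap_mul_self, mul_one]
    have haδH : a * δ * a⁻¹ ∈ H := H.mul_mem (H.mul_mem haH hδH) (H.inv_mem haH)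
    have htH : swap s₁ s₂ * swap s₂ x ∈ H := by
      rw [← ht, ← conj2, ← conj1]
      exact H.mul_mem haδH (H.mul_mem (H.mul_mem hcH haδH) (H.inv_mem hcH))
    have conj3 : c ^ 2 * (swap s₁ s₂ * swap s₂ x) * (c ^ 2)⁻¹ = swap x x' * swap x' x'' := by
      have e0 : ∀ y, (c ^ 2) y = c (c y) := fun y => by rw [pow_two, Perm.mul_apply]
      have e1 : c ^ 2 * swap s₁ s₂ * (c ^ 2)⁻¹ = swap x x' := by
        rw [← swap_apply_apply, e0, e0, hc1, hc2, hc3]
      have e2 : c ^ 2 * swap s₂ x * (c ^ 2)⁻¹ = swap x' x'' := by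
        rw [← swap_apply_apply, e0, e0, hc2, hc3, hc4]
      calc c ^ 2 * (swap s₁ s₂ * swap s₂ x) * (c ^ 2)⁻¹
          = (c ^ 2 * swap s₁ s₂ * (c ^ 2)⁻¹) * (c ^ 2 * swap s₂ x * (c ^ 2)⁻¹) := by group
        _ = _ := by rw [e1, e2]
    have ht'H : swap x x' * swap x' x'' ∈ H := by
      rw [← conj3]
      exact H.mul_mem (H.mul_mem (H.pow_mem hcH 2) htH) (H.inv_mem (H.pow_mem hcH 2))
    exact hNS5 Δ H s₁ s₂ x x' x'' hnd0 htH ht'H
  -- parity
  have hSA : Commute (swap (a s₁) (a s₂)) (swap s₁ s₂) :=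
    swap_commute_of_fix _ _ _
      (swap_apply_of_ne_of_ne (hneq _ _ hA1 hs₁l) (hneq _ _ hA1 hs₂l))
      (swap_apply_of_ne_of_ne (hneq _ _ hA2 hs₁l) (hneq _ _ hA2 hs₂l))
  have hSB : Commute (swap (a (a s₁)) (a (a s₂))) (swap s₁ s₂) :=
    swap_commute_of_fix _ _ _
      (swap_apply_of_ne_of_ne (hneq _ _ hB1 hs₁l) (hneq _ _ hB1 hs₂l))
      (swap_apply_of_ne_of_ne (hneq _ _ hB2 hs₁l) (hneq _ _ hB2 hs₂l))
  have hσsign : Perm.sign (swap s₁ s₂ * swap (a s₁) (a s₂) * swap (a (a s₁)) (a (a s₂))) = -1 := by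
    rw [map_mul, map_mul, Perm.sign_swap hs12, Perm.sign_swap hA12, Perm.sign_swap hB12]
    rfl
  have hσa : swap s₁ s₂ * swap (a s₁) (a s₂) * swap (a (a s₁)) (a (a s₂)) * a =
      a * (swap s₁ s₂ * swap (a s₁) (a s₂) * swap (a (a s₁)) (a (a s₂))) := by
    have e1 : a * swap s₁ s₂ * a⁻¹ = swap (a s₁) (a s₂) := (swap_apply_apply a s₁ s₂).symm
    have e2 : a * swap (a s₁) (a s₂) * a⁻¹ = swap (a (a s₁)) (a (a s₂)) :=
      (swap_apply_apply a (a s₁) (a s₂)).symm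
    have e3 : a * swap (a (a s₁)) (a (a s₂)) * a⁻¹ = swap s₁ s₂ := by
      rw [← swap_apply_apply, ha3', ha3']
    have h1 : a * (swap s₁ s₂ * swap (a s₁) (a s₂) * swap (a (a s₁)) (a (a s₂))) * a⁻¹ =
        swap s₁ s₂ * swap (a s₁) (a s₂) * swap (a (a s₁)) (a (a s₂)) := by
      calc a * (swap s₁ s₂ * swap (a s₁) (a s₂) * swap (a (a s₁)) (a (a s₂))) * a⁻¹
          = (a * swap s₁ s₂ * a⁻¹) * (a * swap (a s₁) (a s₂) * a⁻¹) *
              (a * swap (a (a s₁)) (a (a s₂)) * a⁻¹) := by group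
        _ = swap (a s₁) (a s₂) * swap (a (a s₁)) (a (a s₂)) * swap s₁ s₂ := by rw [e1, e2, e3]
        _ = swap s₁ s₂ * (swap (a s₁) (a s₂) * swap (a (a s₁)) (a (a s₂))) :=
            ((hSA.mul_left hSB).eq)
        _ = _ := by rw [mul_assoc]
    exact (mul_inv_eq_iff_eq_mul.mp h1).symm
  exact hODDC Δ 3 a b g _ (by rw [hg]; exact hPP) hσsign hσa

end Cfsg.Agent.Lib.Helper29.APair
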